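import Mathlib

/-!
Block-monomial linear maps; an element of odd order normalising `(R ≀ T) ∩ SL` is scalar.
-/

set_option autoImplicit false

namespace CfsgLib.Pronorm

open Subgroup Equiv Module

variable {F ι U : Type*} [Field F] [AddCommGroup U] [Module F U]

/-- `s` maps the block `i` to the block `τ i` by `r i` -/
def IsMon (s : (ι → U) ≃ₗ[F] (ι → U)) (r : ι → U ≃ₗ[F] U) (τ : Perm ι) : Prop :=
  ∀ v i, s v (τ i) = r i (v i)

/-- the block-monomial map with given data -/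
def mon (r : ι → U ≃ₗ[F] U) (τ : Perm ι) : (ι → U) ≃ₗ[F] (ι → U) :=
  LinearEquiv.funCongrLeft F U τ.symm * LinearEquiv.piCongrRight r

theorem isMon_mon (r : ι → U ≃ₗ[F] U) (τ : Perm ι) : IsMon (mon r τ) r τ := fun v i => by
  change r (τ.symm (τ i)) (v (τ.symm (τ i))) = _
  rw [symm_apply_apply]

theorem isMon_one : IsMon (1 : (ι → U) ≃ₗ[F] (ι → U)) 1 1 := fun _ _ => rfl

variable {s s' : (ι → U) ≃ₗ[F] (ι → U)} {r r' : ι → U ≃ₗ[F] U} {τ τ' : Perm ι}

theorem IsMon.eq_mon (h : IsMon s r τ) : s = mon r τ :=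
  LinearEquiv.ext fun v => funext fun j => by
    obtain ⟨i, rfl⟩ := τ.surjective j
    rw [h, isMon_mon]

theorem IsMon.mul (h : IsMon s r τ) (h' : IsMon s' r' τ') :
    IsMon (s * s') (fun i => r (τ' i) * r' i) (τ * τ') := fun v i => by
  rw [LinearEquiv.mul_apply, Perm.mul_apply, h, h', LinearEquiv.mul_apply]

theorem IsMon.inv (h : IsMon s r τ) : IsMon s⁻¹ (fun i => (r (τ⁻¹ i))⁻¹) τ⁻¹ := fun v i => by
  have := h (s⁻¹ v) (τ⁻¹ i)
  rw [← LinearEquiv.mul_apply, mul_inv_cancel, ← Perm.mul_apply, mul_inv_cancel] at this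
  change v i = _ at this
  rw [this, ← LinearEquiv.mul_apply, inv_mul_cancel]
  rfl

theorem IsMon.pow (h : IsMon s r τ) (k : ℕ) : ∃ ρ, IsMon (s ^ k) ρ (τ ^ k) ∧ (τ = 1 → ρ = r ^ k) := by
  induction k with
  | zero => exact ⟨1, isMon_one, fun _ => rfl⟩
  | succ k ih =>
    obtain ⟨ρ, h1, h2⟩ := ih
    exact ⟨_, h1.mul h, fun e => by rw [h2 e, e, pow_succ]; rfl⟩

theorem IsMon.single [DecidableEq ι] (h : IsMon s r τ) (i : ι) (u : U) :
    s (Pi.single i u) = Pi.single (τ i) (r i u) := funext fun j => by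
  obtain ⟨j, rfl⟩ := τ.surjective j
  rw [h]
  by_cases hj : j = i
  · rw [hj, Pi.single_eq_same, Pi.single_eq_same]
  · rw [Pi.single_eq_of_ne hj, Pi.single_eq_of_ne (τ.injective.ne hj), map_zero]

theorem IsMon.unique [Nontrivial U] (h : IsMon s r τ) (h' : IsMon s r' τ') : τ = τ' ∧ r = r' := by
  classical
  obtain ⟨u, hu⟩ := exists_ne (0 : U)
  have e : τ = τ' := Equiv.ext fun i => by
    by_contra hi
    have := congrFun ((h.single i u).symm.trans (h'.single i u)) (τ i)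
    rw [Pi.single_eq_same, Pi.single_eq_of_ne hi, LinearEquiv.map_eq_zero_iff] at this
    exact hu this
  subst e
  exact ⟨rfl, funext fun i => LinearEquiv.ext fun u => (h (fun _ => u) i).symm.trans (h' (fun _ => u) i)⟩

/-- the wreath product `R ≀ T` -/
def Mon (R : Subgroup (U ≃ₗ[F] U)) (T : Subgroup (Perm ι)) : Subgroup ((ι → U) ≃ₗ[F] (ι → U)) where
  carrier := {s | ∃ r τ, (∀ i, r i ∈ R) ∧ τ ∈ T ∧ IsMon s r τ}
  one_mem' := ⟨1, 1, fun _ => one_mem _, one_mem _, isMon_one⟩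
  mul_mem' := by
    rintro _ _ ⟨r, τ, h1, h2, h3⟩ ⟨r', τ', h4, h5, h6⟩
    exact ⟨_, _, fun i => mul_mem (h1 _) (h4 _), mul_mem h2 h5, h3.mul h6⟩
  inv_mem' := by
    rintro _ ⟨r, τ, h1, h2, h3⟩
    exact ⟨_, _, fun i => inv_mem (h1 _), inv_mem h2, h3.inv⟩

variable {R : Subgroup (U ≃ₗ[F] U)} {T : Subgroup (Perm ι)}

theorem IsMon.mem_iff [Nontrivial U] (h : IsMon s r τ) : s ∈ Mon R T ↔ (∀ i, r i ∈ R) ∧ τ ∈ T :=
  ⟨fun ⟨_, _, h1, h2, h3⟩ => ⟨(h.unique h3).2 ▸ h1, (h.unique h3).1 ▸ h2⟩, fun h' => ⟨r, τ, h'.1, h'.2, h⟩⟩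

theorem card_Mon [Nontrivial U] [Finite ι] :
    Nat.card (Mon R T) = Nat.card R ^ Nat.card ι * Nat.card T := by
  rw [← Nat.card_fun, ← Nat.card_prod]
  refine (Nat.card_eq_of_bijective (fun x : (ι → R) × T => (⟨mon (fun i => x.1 i) x.2,
    _, _, fun i => (x.1 i).2, x.2.2, isMon_mon _ _⟩ : Mon R T)) ⟨fun x y h => ?_, ?_⟩).symm
  · have e : mon (fun i => (x.1 i : U ≃ₗ[F] U)) x.2 = mon (fun i => y.1 i) y.2 := congrArg Subtype.val h
    have := (isMon_mon _ _).unique (e ▸ isMon_mon (fun i => (y.1 i : U ≃ₗ[F] U)) y.2)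
    exact Prod.ext (funext fun i => Subtype.ext (congrFun this.2 i)) (Subtype.ext this.1)
  · rintro ⟨s, r, τ, h1, h2, h3⟩
    exact ⟨(fun i => ⟨r i, h1 i⟩, ⟨τ, h2⟩), Subtype.ext h3.eq_mon.symm⟩

theorem det_mon [Fintype ι] [FiniteDimensional F U] (r : ι → U ≃ₗ[F] U) (τ : Perm ι) :
    LinearEquiv.det (mon r τ) = LinearEquiv.det (mon (1 : ι → U ≃ₗ[F] U) τ) * ∏ i, LinearEquiv.det (r i) := by
  rw [mon, map_mul]
  congr 1
  ext
  rw [Units.coe_prod]
  simp only [LinearEquiv.coe_det]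
  rw [← LinearMap.det_pi]
  rfl

theorem det_mon_one [Fintype ι] (τ : Perm ι) :
    LinearEquiv.det (mon (1 : ι → (Fin 2 → F) ≃ₗ[F] (Fin 2 → F)) τ) = 1 := by
  classical
  let e : (Fin 2 → ι → F) ≃ₗ[F] (ι → Fin 2 → F) :=
    { Equiv.piComm fun _ _ => F with map_add' := fun _ _ => rfl, map_smul' := fun _ _ => rfl }
  have h1 : LinearMap.det (LinearEquiv.funCongrLeft F F τ.symm).toLinearMap = Perm.sign τ.symm := by
    rw [← LinearMap.det_toMatrix', ← Matrix.det_permutation]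
    congr 1
    ext i j
    simp [Pi.single_apply, PEquiv.toMatrix_apply]
  ext
  rw [LinearEquiv.coe_det, ← LinearMap.det_conj _ e.symm]
  refine (LinearMap.det_pi fun _ : Fin 2 => (LinearEquiv.funCongrLeft F F τ.symm).toLinearMap).trans ?_
  rw [h1, Fin.prod_univ_two, ← Int.cast_mul, ← Units.val_mul, Int.units_mul_self]
  simp

section Block

variable [FiniteDimensional F U] [Finite ι] [DecidableEq ι] (h2 : (2 : F) ≠ 0) (hU : finrank F U = 2)
  {W : Submodule F (ι → U)} (hW : finrank F W = 2)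
include h2 hU hW

theorem IsMon.perm_eq_one (h : IsMon s r τ) (h1 : ∀ v, s v - v ∈ W) (hs : ∀ w ∈ W, s (s w) = -w) :
    τ = 1 := by
  by_contra hc
  obtain ⟨i, hi⟩ : ∃ i, τ i ≠ i := not_forall.1 fun h => hc (Equiv.ext h)
  set φ := (s.toLinearMap - 1) ∘ₗ LinearMap.single F (fun _ : ι => U) i
  have hφ : ∀ u, φ u = Pi.single (τ i) (r i u) - Pi.single i u := fun u => by rw [← h.single]; rfl
  have hφi : ∀ u, φ u i = -u := fun u => by simp [hφ, Pi.single_eq_of_ne hi.symm]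
  have hr : LinearMap.range φ = W := Submodule.eq_of_le_of_finrank_eq (by rintro _ ⟨u, rfl⟩; exact h1 _)
    (by rw [LinearMap.finrank_range_of_inj fun u u' e => neg_injective (by rw [← hφi, e, hφi]), hU, hW])
  have h3 : ∀ w ∈ W, s w = -w := by
    intro w hw
    obtain ⟨u', hu'⟩ := hr.ge (show s w ∈ W by simpa using add_mem (h1 w) hw)
    obtain ⟨u, rfl⟩ := hr.ge hw
    have := congrFun hu' (τ i)
    rw [h, hφi, hφ, Pi.sub_apply, Pi.single_eq_same, Pi.single_eq_of_ne hi, sub_zero] at this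
    rw [← hu', (r i).injective this, map_neg]
  have h4 : W = ⊥ := (Submodule.eq_bot_iff _).2 fun w hw => by
    have := hs w hw
    rw [h3 w hw, map_neg, h3 w hw, neg_neg, ← add_eq_zero_iff_eq_neg, ← two_smul F] at this
    exact (smul_eq_zero.1 this).resolve_left h2
  rw [h4, finrank_bot] at hW
  omega

theorem IsMon.exists_block (h : IsMon s r τ) (h' : IsMon s' r' τ') (h1 : ∀ v, s v - v ∈ W)
    (h1' : ∀ v, s' v - v ∈ W) (hs : ∀ w ∈ W, s (s w) = -w) (hs' : ∀ w ∈ W, s' (s' w) = -w)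
    (hc : ∀ w ∈ W, s (s' w) = -s' (s w)) :
    ∃ i, W = LinearMap.range (LinearMap.single F (fun _ : ι => U) i) := by
  obtain rfl := h.perm_eq_one h2 hU hW h1 hs
  obtain rfl := h'.perm_eq_one h2 hU hW h1' hs'
  obtain ⟨w, hw, hw0⟩ := W.exists_mem_ne_zero_of_ne_bot (by
    rintro rfl
    rw [finrank_bot] at hW
    omega)
  obtain ⟨i, hi⟩ := Function.ne_iff.1 hw0
  refine ⟨i, (Submodule.eq_of_le_of_finrank_eq ?_ (by
    rw [LinearMap.finrank_range_of_inj (Pi.single_injective (M := fun _ => U) i), hU, hW])).symm⟩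
  rw [LinearMap.range_le_iff_comap]
  set X := W.comap (LinearMap.single F (fun _ : ι => U) i)
  have hX : ∀ u, u ∈ X ↔ (Pi.single i u : ι → U) ∈ W := fun _ => Iff.rfl
  have h3 : w i ∈ X := by
    have e := congrFun (hs w hw) i
    have e' := h1 (Pi.single i ((s w + w) i))
    rw [h.single, Perm.one_apply, ← Pi.single_sub] at e'
    have e2 : r i ((s w + w) i) - (s w + w) i = (-2 : F) • w i := by
      rw [← h (s w + w) i, map_add, Perm.one_apply, Pi.add_apply, Pi.add_apply, e, Pi.neg_apply]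
      module
    rw [e2, ← hX] at e'
    exact (X.smul_mem_iff (neg_ne_zero.2 h2)).1 e'
  by_contra hc'
  have h4 : finrank F X = 1 := by
    have := Submodule.finrank_lt hc'
    have := (finrank_pos_iff_exists_ne_zero (R := F)).2 ⟨(⟨w i, h3⟩ : X), fun e => hi (congrArg Subtype.val e)⟩
    omega
  have h5 : ∀ u ∈ X, ∃ c : F, c • w i = u := fun u hu => by
    obtain ⟨c, hc⟩ := exists_smul_eq_of_finrank_eq_one h4 (x := ⟨w i, h3⟩)
      (fun e => hi (congrArg Subtype.val e)) ⟨u, hu⟩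
    exact ⟨c, congrArg Subtype.val hc⟩
  obtain ⟨a, ha⟩ := h5 (r i (w i)) (by
    simpa [hX, h.single] using add_mem (h1 (Pi.single i (w i))) ((hX _).1 h3))
  obtain ⟨b, hb⟩ := h5 (r' i (w i)) (by
    simpa [hX, h'.single] using add_mem (h1' (Pi.single i (w i))) ((hX _).1 h3))
  have e := congrFun (hc w hw) i
  have e1 := h (s' w) i
  have e2 := h' (s w) i
  have e3 := h w i
  have e4 := h' w i
  simp only [Perm.one_apply] at e1 e2 e3 e4
  rw [Pi.neg_apply, e1, e2, e3, e4] at e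
  have e5 : r' i (r i (w i)) = r i (r' i (w i)) := by
    conv_lhs => rw [← ha, map_smul, ← hb]
    conv_rhs => rw [← hb, map_smul, ← ha]
    exact smul_comm _ _ _
  rw [e5, ← add_eq_zero_iff_eq_neg, ← two_smul F] at e
  exact hi (by simpa [h2] using e)

end Block

theorem eq_one_of_odd {G : Type*} [Group G] {P : Subgroup G} (hP : IsPGroup 2 P) {g : G} (hg : g ∈ P)
    {m : ℕ} (hm : Odd m) (h : g ^ m = 1) : g = 1 := by
  obtain ⟨k, hk⟩ := hP ⟨g, hg⟩
  exact orderOf_eq_one_iff.1 (Nat.eq_one_of_dvd_coprimes ((Nat.coprime_two_left.2 hm).pow_left k)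
    (orderOf_dvd_of_pow_eq_one (congrArg Subtype.val hk)) (orderOf_dvd_of_pow_eq_one h))

theorem exists_smul_of_normalizes [FiniteDimensional F U] [Fintype ι] [Nontrivial ι] (h2 : (2 : F) ≠ 0)
    (hU : finrank F U = 2) (hψ : ∀ τ, LinearEquiv.det (mon (1 : ι → U ≃ₗ[F] U) τ) = 1)
    (hT : normalizer (T : Set (Perm ι)) ≤ T) (hT2 : IsPGroup 2 T) (hTt : ∀ i j, ∃ τ ∈ T, τ i = j)
    (hR2 : IsPGroup 2 R) {x y : U ≃ₗ[F] U} (hx : x ∈ R) (hy : y ∈ R) (dx : LinearEquiv.det x = 1)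
    (dy : LinearEquiv.det y = 1) (xx : ∀ u, x (x u) = -u) (yy : ∀ u, y (y u) = -u)
    (xy : ∀ u, x (y u) = -y (x u)) {m : ℕ} (hm : Odd m)
    (hR : ∀ h : U ≃ₗ[F] U, (∀ r ∈ R, h * r * h⁻¹ ∈ R) → h ^ m = 1 → ∃ c : F, ∀ u, h u = c • u)
    {g : (ι → U) ≃ₗ[F] (ι → U)} (hg : ∀ s ∈ Mon R T, LinearEquiv.det s = 1 → g * s * g⁻¹ ∈ Mon R T)
    (hgm : g ^ m = 1) : ∃ c : F, ∀ v, g v = c • v := by
  classical
  have : Nontrivial U := Module.nontrivial_of_finrank_pos (R := F) (by omega)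
  have hd : ∀ (r : ι → U ≃ₗ[F] U) τ, (∀ i, r i ∈ R) → τ ∈ T → ∏ i, LinearEquiv.det (r i) = 1 →
      g * mon r τ * g⁻¹ ∈ Mon R T := fun r τ h1 h3 h4 =>
    hg _ ⟨r, τ, h1, h3, isMon_mon r τ⟩ (by rw [det_mon, hψ, h4, one_mul])
  have hd1 : ∀ (i : ι) (a : U ≃ₗ[F] U), ∏ j, LinearEquiv.det (Pi.mulSingle (M := fun _ => U ≃ₗ[F] U) i a j) =
      LinearEquiv.det a := fun i a => by
    rw [Finset.prod_eq_single i (fun j _ h => by simp [h]) (by simp), Pi.mulSingle_eq_same]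
  have hm1 : ∀ i : ι, ∀ a ∈ R, ∀ j, Pi.mulSingle (M := fun _ => U ≃ₗ[F] U) i a j ∈ R := fun i a ha j => by
    rw [Pi.mulSingle_apply]; split_ifs; exacts [ha, one_mem _]
  have hb : ∀ i, ∃ j, ∀ u, ∃ u', g (Pi.single i u) = Pi.single j u' := by
    intro i
    obtain ⟨r, τ, -, -, h⟩ := hd _ 1 (hm1 i x hx) (one_mem _) ((hd1 i x).trans dx)
    obtain ⟨r', τ', -, -, h'⟩ := hd _ 1 (hm1 i y hy) (one_mem _) ((hd1 i y).trans dy)
    have h3 : ∀ (a : U ≃ₗ[F] U) u, (g * mon (Pi.mulSingle i a) 1 * g⁻¹) (g (Pi.single i u)) =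
        g (Pi.single i (a u)) := fun a u => by
      rw [← LinearEquiv.mul_apply, inv_mul_cancel_right, LinearEquiv.mul_apply, (isMon_mon _ _).single,
        Pi.mulSingle_eq_same, Perm.one_apply]
    have h4 : ∀ (a : U ≃ₗ[F] U) v, (g * mon (Pi.mulSingle i a) 1 * g⁻¹) v - v ∈
        LinearMap.range (g.toLinearMap ∘ₗ LinearMap.single F (fun _ : ι => U) i) := fun a v => by
      obtain ⟨v, rfl⟩ := g.surjective v
      refine ⟨a (v i) - v i, ?_⟩
      rw [← LinearEquiv.mul_apply, inv_mul_cancel_right, LinearEquiv.mul_apply, ← map_sub]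
      refine congrArg g (funext fun j => ?_)
      have := isMon_mon (Pi.mulSingle (M := fun _ => U ≃ₗ[F] U) i a) 1 v j
      rw [Perm.one_apply] at this
      by_cases hj : j = i
      · subst hj
        simp [this]
      · simp [this, hj]
    obtain ⟨j, hj⟩ := h.exists_block h2 hU (by
      rw [LinearMap.finrank_range_of_inj fun a b e =>
        Pi.single_injective (M := fun _ => U) i (g.injective e), hU])
      h' (h4 x) (h4 y)
      (by rintro _ ⟨u, rfl⟩; simp [h3, xx, Pi.single_neg])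
      (by rintro _ ⟨u, rfl⟩; simp [h3, yy, Pi.single_neg])
      (by rintro _ ⟨u, rfl⟩; simp [h3, xy, Pi.single_neg])
    exact ⟨j, fun u => by
      obtain ⟨u', e⟩ := hj.le ⟨u, rfl⟩
      exact ⟨u', e.symm⟩⟩
  choose π hπ using hb
  obtain ⟨γ, hγ⟩ : ∃ γ : ι → U ≃ₗ[F] U, ∀ i u, g (Pi.single i u) = Pi.single (π i) (γ i u) := by
    refine ⟨fun i => LinearEquiv.ofInjectiveEndo (LinearMap.proj (π i) ∘ₗ g.toLinearMap ∘ₗ
      LinearMap.single F (fun _ : ι => U) i) ((injective_iff_map_eq_zero _).2 fun u hu => ?_), fun i u => ?_⟩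
    · obtain ⟨u', e⟩ := hπ i u
      simp [e] at hu
      simpa [hu] using e
    · obtain ⟨u', e⟩ := hπ i u
      simp [e]
  have hπi : Function.Injective π := fun i j hij => by
    obtain ⟨u, hu⟩ := exists_ne (0 : U)
    by_contra hc
    have := congrFun (g.injective (show g (Pi.single i u) = g (Pi.single j ((γ j).symm (γ i u))) by
      rw [hγ, hγ, hij, LinearEquiv.apply_symm_apply])) i
    rw [Pi.single_eq_same, Pi.single_eq_of_ne hc] at this
    exact hu this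
  obtain ⟨π, rfl⟩ : ∃ σ : Perm ι, σ = π := ⟨Equiv.ofBijective π (Finite.injective_iff_bijective.1 hπi), rfl⟩
  have hM : IsMon g γ π := by
    have : g = mon γ π := LinearEquiv.toLinearMap_injective (LinearMap.pi_ext fun i u =>
      (hγ i u).trans ((isMon_mon γ π).single i u).symm)
    exact this ▸ isMon_mon γ π
  obtain ⟨ρ, h3, h4⟩ := hM.pow m
  obtain ⟨h5, h6⟩ := h3.unique (hgm ▸ isMon_one)
  have hc : ∀ (r : ι → U ≃ₗ[F] U) τ, (∀ i, r i ∈ R) → τ ∈ T → ∏ i, LinearEquiv.det (r i) = 1 → _ :=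
    fun r τ a b c => ((hM.mul (isMon_mon r τ)).mul hM.inv).mem_iff.1 (hd r τ a b c)
  obtain rfl : π = 1 := eq_one_of_odd hT2 (hT (mem_normalizer_fintype fun τ hτ =>
    (hc 1 τ (fun _ => one_mem _) hτ (by simp)).2)) hm h5
  have h7 : ∀ i, γ i ^ m = 1 := fun i => congrFun ((h4 rfl).symm.trans h6) i
  have h8 : ∀ i, ∃ c : F, ∀ u, γ i u = c • u := fun i => hR _ (fun r hr => by
    obtain ⟨j, hj⟩ := exists_ne i
    have := (hc (fun l => Pi.mulSingle (M := fun _ => U ≃ₗ[F] U) i r l *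
      Pi.mulSingle (M := fun _ => U ≃ₗ[F] U) j r⁻¹ l) 1
      (fun l => mul_mem (hm1 i r hr l) (hm1 j _ (inv_mem hr) l)) (one_mem _)
      (by simp [Finset.prod_mul_distrib, hd1])).1 i
    change γ i * (Pi.mulSingle (M := fun _ => U ≃ₗ[F] U) i r i *
      Pi.mulSingle (M := fun _ => U ≃ₗ[F] U) j r⁻¹ i) * (γ i)⁻¹ ∈ R at this
    rwa [Pi.mulSingle_eq_same, Pi.mulSingle_eq_of_ne hj.symm, mul_one] at this) (h7 i)
  choose c hc' using h8
  obtain ⟨i₀⟩ : Nonempty ι := inferInstance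
  refine ⟨c i₀, fun v => funext fun j => ?_⟩
  obtain ⟨τ, hτ, rfl⟩ := hTt i₀ j
  have h9 : γ (τ i₀) * (γ i₀)⁻¹ = 1 := by
    refine eq_one_of_odd hR2 (by simpa using (hc 1 τ (fun _ => one_mem _) hτ (by simp)).1 i₀) hm ?_
    rw [(show Commute (γ (τ i₀)) (γ i₀)⁻¹ from LinearEquiv.ext fun u => by
      simp [hc' (τ i₀)]).mul_pow, inv_pow, h7, h7, inv_one, mul_one]
  have := hM v (τ i₀)
  rw [Perm.one_apply, mul_inv_eq_one.1 h9, hc'] at this
  exact this

end CfsgLib.Pronorm
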